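import Groth.Agent.TorObstr.Basic

/-!
# A non-nilpotent obstruction forces infinite tor dimension
-/

set_option autoImplicit false
set_option linter.style.haveILetI false

open TensorProduct

namespace Groth.Agent.TorObstr

universe u

section Comparison

variable {P : Type u} [CommRing P] {m : ℕ} (fs r : Fin m → P)

/-- The exterior algebra on the relations. -/
abbrev Λ (P : Type u) [CommRing P] (m : ℕ) : Type u := ExteriorAlgebra P (Fin m → P)

/-- The Koszul differential. -/
noncomputable def δ : Λ P m →ₗ[P] Λ P m := CliffordAlgebra.contractLeft (Fintype.linearCombination P fs)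

/-- Multiplication by the relation. -/
noncomputable def ε : Λ P m →ₗ[P] Λ P m := LinearMap.mulLeft P (ExteriorAlgebra.ι P r)

/-- The shift. -/
noncomputable def shift {P M : Type*} [Semiring P] [AddCommMonoid M] [Module P M] :
    (ℕ →₀ M) →ₗ[P] (ℕ →₀ M) :=
  Finsupp.lcomapDomain Nat.succ Nat.succ_injective

theorem shift_apply {P M : Type*} [Semiring P] [AddCommMonoid M] [Module P M] (x : ℕ →₀ M) (k : ℕ) :
    shift (P := P) x k = x (k + 1) := rfl

/-- The total differential of the divided power extension of the Koszul complex. -/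
noncomputable def dT : (ℕ →₀ Λ P m) →ₗ[P] (ℕ →₀ Λ P m) :=
  Finsupp.mapRange.linearMap (δ fs) + shift ∘ₗ Finsupp.mapRange.linearMap (ε r)

theorem dT_apply (x : ℕ →₀ Λ P m) (k : ℕ) : dT fs r x k = δ fs (x k) + ε r (x (k + 1)) := by
  simp [dT, shift_apply]

theorem δ_ι_mul (a : Fin m → P) (x : Λ P m) :
    δ fs (ExteriorAlgebra.ι P a * x) = (∑ i, a i * fs i) • x - ExteriorAlgebra.ι P a * δ fs x := by
  unfold δ
  exact (CliffordAlgebra.contractLeft_ι_mul (Fintype.linearCombination P fs) a x).trans (by rw [Fintype.linearCombination_apply]; rfl)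

theorem dT_dT (hrel : ∑ i, r i * fs i = 0) (x : ℕ →₀ Λ P m) : dT fs r (dT fs r x) = 0 := by
  ext k
  rw [dT_apply, dT_apply, dT_apply, Finsupp.zero_apply, map_add (δ fs), map_add (ε r)]
  have h1 : ∀ y, δ fs (δ fs y) = 0 := fun y => CliffordAlgebra.contractLeft_contractLeft _ y
  have h2 : ∀ y, δ fs (ε r y) = - ε r (δ fs y) := fun y => by
    simp only [ε, LinearMap.mulLeft_apply, δ_ι_mul, hrel, zero_smul, zero_sub]
  have h3 : ∀ y, ε r (ε r y) = 0 := fun y => by
    simp only [ε, LinearMap.mulLeft_apply, ← mul_assoc, ExteriorAlgebra.ι_sq_zero, zero_mul]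
  rw [h1, h2, h3, zero_add, add_zero, neg_add_cancel]

theorem scalar_δ_mem (x : Λ P m) :
    ExteriorAlgebra.algebraMapInv (δ fs x) ∈ Ideal.span (Set.range fs) := by
  induction x using CliffordAlgebra.left_induction with
  | algebraMap p =>
    rw [show δ fs (algebraMap P _ p) = 0 from CliffordAlgebra.contractLeft_algebraMap _ (Fintype.linearCombination P fs) p, map_zero]
    exact zero_mem _
  | add x y hx hy => rw [map_add, map_add]; exact add_mem hx hy
  | ι_mul x a _ =>
    show ExteriorAlgebra.algebraMapInv (δ fs (ExteriorAlgebra.ι P a * x)) ∈ _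
    rw [δ_ι_mul, map_sub, map_mul, map_smul, smul_eq_mul,
      show ExteriorAlgebra.algebraMapInv (ExteriorAlgebra.ι P a) = 0 by simp [ExteriorAlgebra.algebraMapInv],
      zero_mul, sub_zero]
    exact Ideal.mul_mem_right _ _ (Ideal.sum_mem _ fun i _ =>
      Ideal.mul_mem_left _ _ (Ideal.subset_span ⟨i, rfl⟩))

/-- The comparison map into the canonical resolution. -/
theorem exists_comparison (hrel : ∑ i, r i * fs i = 0) :
    ∃ Φ : ∀ i, (ℕ →₀ Λ P m) →ₗ[P] F (Ideal.span (Set.range fs)) i,
      (∀ y, Φ 0 y = Finsupp.single PUnit.unit (ExteriorAlgebra.algebraMapInv (y 0))) ∧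
      ∀ i y, d (Ideal.span (Set.range fs)) i (Φ (i + 1) y) = Φ i (dT fs r y) := by
  set J := Ideal.span (Set.range fs)
  haveI : Module.Free P (Λ P m) := Module.Free.of_basis (Pi.basisFun P (Fin m)).ExteriorAlgebra
  let Ok : ∀ i, ((ℕ →₀ Λ P m) →ₗ[P] F J i) → Prop := fun i φ => ∀ y, φ (dT fs r y) ∈ Z J i
  let φ₀ : (ℕ →₀ Λ P m) →ₗ[P] F J 0 :=
    (Finsupp.lsingle PUnit.unit).comp
      ((ExteriorAlgebra.algebraMapInv : Λ P m →ₐ[P] P).toLinearMap.comp (Finsupp.lapply 0))
  have h₀ : Ok 0 φ₀ := by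
    intro y
    show (φ₀ (dT fs r y)) PUnit.unit ∈ J
    show (Finsupp.single PUnit.unit (ExteriorAlgebra.algebraMapInv (dT fs r y 0)) : PUnit.{u + 1} →₀ P)
      PUnit.unit ∈ J
    rw [Finsupp.single_eq_same, dT_apply, map_add]
    refine add_mem (scalar_δ_mem fs _) ?_
    rw [ε, LinearMap.mulLeft_apply, map_mul,
      show ExteriorAlgebra.algebraMapInv (ExteriorAlgebra.ι P r) = 0 by simp [ExteriorAlgebra.algebraMapInv],
      zero_mul]
    exact zero_mem _
  have hstep : ∀ i (φ : {φ // Ok i φ}), ∃ ψ : {ψ // Ok (i + 1) ψ},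
      ∀ y, d J i (ψ.1 y) = φ.1 (dT fs r y) := by
    rintro i ⟨φ, hφ⟩
    let q : F J (i + 1) →ₗ[P] ↥(Z J i) := LinearMap.codRestrict _ (d J i) (d_mem J i)
    have hq : Function.Surjective q := fun z => by
      obtain ⟨x, hx⟩ := (range_d J i).ge z.2
      exact ⟨x, Subtype.ext hx⟩
    obtain ⟨ψ, hψ⟩ := Module.projective_lifting_property q
      (LinearMap.codRestrict (Z J i) (φ.comp (dT fs r)) hφ) hq
    have hψ' : ∀ y, d J i (ψ y) = φ (dT fs r y) := fun y => congrArg Subtype.val (LinearMap.congr_fun hψ y)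
    exact ⟨⟨ψ, fun y => mem_Z_succ J i (by rw [hψ', dT_dT fs r hrel, map_zero])⟩, hψ'⟩
  choose next hnext using hstep
  let Φ : ∀ i, {φ // Ok i φ} := fun i => Nat.rec ⟨φ₀, h₀⟩ next i
  exact ⟨fun i => (Φ i).1, fun y => rfl, fun i y => hnext i (Φ i) y⟩

end Comparison

variable {Pp P R : Type u} [CommRing Pp] [CommRing P] [CommRing R] [Algebra R P] [Module.Flat R P]

/-- The obstruction theorem. -/
theorem pow_mem_sup {m : ℕ} (ρ : Pp →+* P) (hρ : Function.Surjective ρ) (F₀ : Pp)
    (hker : RingHom.ker ρ = Ideal.span {F₀}) (hF₀ : F₀ * F₀ = 0) {p : ℕ} (e : Fin p → R) (IP : Ideal P)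
    (hIP : IP = Ideal.span (Set.range fun l => algebraMap R P (e l)))
    (hK₁ : ∀ u, F₀ * u = 0 → ρ u ∈ IP) (hK₂ : ∀ y ∈ IP, ∃ u, F₀ * u = 0 ∧ ρ u = y)
    (fs r : Fin m → P) (hr : ∀ i, r i ∈ IP) (hrel : ∑ i, r i * fs i = 0)
    (r' f' : Fin m → Pp) (hr' : ∀ i, ρ (r' i) = r i) (hf' : ∀ i, ρ (f' i) = fs i) (g : Pp)
    (hsum : ∑ i, r' i * f' i = F₀ * g) {D : ℕ}
    (hD : Synt29.TorExactFrom R (D + 1) (P ⧸ Ideal.span (Set.range fs))) :
    ρ g ^ (D + 1) ∈ Ideal.span (Set.range fs) ⊔ IP := by
  classical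
  set J := Ideal.span (Set.range fs)
  obtain ⟨Φ, hΦ0, hΦ⟩ := exists_comparison fs r hrel
  -- reductions of free modules
  let red : ∀ {α : Type u}, (α →₀ Pp) → (α →₀ P) := fun x => x.mapRange ρ (map_zero ρ)
  have red_add : ∀ {α : Type u} (x y : α →₀ Pp), red (x + y) = red x + red y := fun x y =>
    Finsupp.mapRange_add (fun a b => map_add ρ a b) x y
  have red_sub : ∀ {α : Type u} (x y : α →₀ Pp), red (x - y) = red x - red y := fun x y =>
    Finsupp.ext fun a => by simp [red]
  have red_smul : ∀ {α : Type u} (c : Pp) (x : α →₀ Pp), red (c • x) = ρ c • red x := fun c x =>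
    Finsupp.ext fun a => by simp [red]
  have red_sum : ∀ {α : Type u} {κ : Type} (s : Finset κ) (f : κ → α →₀ Pp),
      red (∑ i ∈ s, f i) = ∑ i ∈ s, red (f i) := fun s f =>
    map_sum (Finsupp.mapRange.addMonoidHom ρ.toAddMonoidHom) f s
  have red_surj : ∀ {α : Type u} (x : α →₀ P), ∃ y, red y = x := fun x =>
    Finsupp.mapRange_surjective ρ (map_zero ρ) hρ x
  have red_ker : ∀ {α : Type u} (x y : α →₀ Pp), red x = red y → ∃ w, x = y + F₀ • w := by
    intro α x y h
    obtain ⟨w, -, hw⟩ := exists_finsupp_of_forall (fun c => F₀ * c) (by simp) (fun _ => True) trivial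
      (x - y) (fun a => by
        have h1 : x a - y a ∈ RingHom.ker ρ := by
          rw [RingHom.mem_ker, map_sub, sub_eq_zero]
          exact DFunLike.congr_fun h a
        rw [hker] at h1
        obtain ⟨c, hc⟩ := Ideal.mem_span_singleton'.1 h1
        exact ⟨c, trivial, by rw [mul_comm, hc]; rfl⟩)
    refine ⟨w, ?_⟩
    rw [show F₀ • w = x - y from hw ▸ Finsupp.ext fun a => by simp, add_sub_cancel]
  have red_F₀ : ∀ {α : Type u} (w : α →₀ Pp), red (F₀ • w) = 0 := fun w => by
    rw [red_smul, show ρ F₀ = 0 from RingHom.mem_ker.1 (hker ▸ Ideal.mem_span_singleton_self F₀), zero_smul]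
  let Small : ∀ {α : Type u}, (α →₀ P) → Prop := fun x => ∀ a, x a ∈ IP
  have small_ann : ∀ {α : Type u} (u : α →₀ Pp), F₀ • u = 0 → Small (red u) := fun u hu a =>
    hK₁ (u a) (by simpa using DFunLike.congr_fun hu a)
  have small_lift : ∀ {α : Type u} (x : α →₀ P), Small x → ∃ u, F₀ • u = 0 ∧ red u = x := by
    intro α x hx
    obtain ⟨u, hu, hux⟩ := exists_finsupp_of_forall ρ (map_zero ρ) (fun c => F₀ * c = 0) (mul_zero _) x
      (fun a => hK₂ _ (hx a))
    exact ⟨u, Finsupp.ext fun a => by simpa using hu a, hux⟩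
  -- lifts of the differentials
  let lz : ∀ i, ↥(Z J i) → ((step J i).1 →₀ Pp) := fun i w => (red_surj w.1).choose
  have hlz : ∀ i w, red (lz i w) = w.1 := fun i w => (red_surj w.1).choose_spec
  let d' : ∀ i, ((step J (i + 1)).1 →₀ Pp) →ₗ[Pp] ((step J i).1 →₀ Pp) := fun i =>
    Finsupp.linearCombination Pp (lz i)
  have hd' : ∀ i x, red (d' i x) = d J i (red x) := by
    intro i x
    induction x using Finsupp.induction_linear with
    | zero => simp [red]
    | add x y hx hy => rw [map_add, red_add, hx, hy, red_add, map_add]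
    | single w c =>
      rw [show d' i (Finsupp.single w c) = c • lz i w from Finsupp.linearCombination_single Pp c w,
        red_smul, hlz, show red (Finsupp.single w c) = Finsupp.single w (ρ c) from Finsupp.mapRange_single]
      exact (Finsupp.linearCombination_single P (ρ c) w).symm
  have dd_zero : ∀ i x, d J i (d J (i + 1) x) = 0 := fun i x => d_mem J (i + 1) x
  have hθ : ∀ i, ∃ θ : ((step J (i + 2)).1 →₀ Pp) →ₗ[Pp] ((step J i).1 →₀ Pp),
      ∀ x, d' i (d' (i + 1) x) = F₀ • θ x := by
    intro i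
    choose w hw using fun z : (step J (i + 2)).1 => red_ker (d' i (d' (i + 1) (Finsupp.single z 1))) 0 (by
      rw [hd', hd', dd_zero]; simp [red])
    refine ⟨Finsupp.linearCombination Pp w, fun x => ?_⟩
    induction x using Finsupp.induction_linear with
    | zero => simp
    | add x y hx hy => rw [map_add, map_add, hx, hy, map_add, smul_add]
    | single z c =>
      rw [← Finsupp.smul_single_one, map_smul, map_smul, map_smul, hw, zero_add,
        Finsupp.linearCombination_single, one_smul, smul_comm]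
  choose θ hθ using hθ
  -- bounds modulo the ideal
  let Bd : ∀ i, F J i → Prop := fun i x => ∃ (β : F J (i + 1)) (γ : F J i), Small γ ∧ x = d J i β + γ
  let a : ∀ k, F J (2 * k) := fun k => Φ (2 * k) (Finsupp.single k 1)
  let es : Fin m → (Fin m → P) := fun i => Pi.single i 1
  have hι : ExteriorAlgebra.ι P r = ∑ i, r i • ExteriorAlgebra.ι P (es i) := by
    conv_lhs => rw [pi_eq_sum_univ' r]
    rw [map_sum]
    exact Finset.sum_congr rfl fun i _ => map_smul _ _ _
  -- the two formulas
  have hda : ∀ k, d J (2 * k + 1) (a (k + 1)) =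
      ∑ i, r i • Φ (2 * k + 1) (Finsupp.single k (ExteriorAlgebra.ι P (es i))) := by
    intro k
    rw [show d J (2 * k + 1) (a (k + 1)) = Φ (2 * k + 1) (dT fs r (Finsupp.single (k + 1) 1)) from
      hΦ (2 * k + 1) _]
    have h : dT fs r (Finsupp.single (k + 1) (1 : Λ P m)) = Finsupp.single k (ExteriorAlgebra.ι P r) := by
      ext j
      rw [dT_apply]
      have h1 : δ fs (1 : Λ P m) = 0 := by
        rw [← map_one (algebraMap P (Λ P m))]
        exact CliffordAlgebra.contractLeft_algebraMap _ (Fintype.linearCombination P fs) 1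
      simp [Finsupp.single_apply, apply_ite (δ fs), apply_ite (ε r), h1, ε]
    rw [h, hι, ← Finsupp.singleAddHom_apply, map_sum, map_sum]
    refine Finset.sum_congr rfl fun i _ => ?_
    rw [Finsupp.singleAddHom_apply, ← Finsupp.smul_single, map_smul]
  have hdb : ∀ k i, d J (2 * k) (Φ (2 * k + 1) (Finsupp.single k (ExteriorAlgebra.ι P (es i)))) =
      fs i • a k + ∑ j, r j • Φ (2 * k)
        (shift (P := P) (Finsupp.single k (ExteriorAlgebra.ι P (es j) * ExteriorAlgebra.ι P (es i)))) := by
    intro k i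
    rw [hΦ (2 * k) _]
    have h1 : δ fs (ExteriorAlgebra.ι P (es i)) = fs i • 1 := by
      rw [← mul_one (ExteriorAlgebra.ι P (es i)), δ_ι_mul,
        show δ fs (1 : Λ P m) = 0 by
          rw [← map_one (algebraMap P (Λ P m))]; exact CliffordAlgebra.contractLeft_algebraMap _ (Fintype.linearCombination P fs) 1,
        mul_zero, sub_zero]
      simp [es, Pi.single_apply]
    have h : dT fs r (Finsupp.single k (ExteriorAlgebra.ι P (es i))) = fs i • Finsupp.single k 1 +
        ∑ j, r j • shift (P := P)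
          (Finsupp.single k (ExteriorAlgebra.ι P (es j) * ExteriorAlgebra.ι P (es i))) := by
      have e1 : ε r (ExteriorAlgebra.ι P (es i)) =
          ∑ j, r j • (ExteriorAlgebra.ι P (es j) * ExteriorAlgebra.ι P (es i)) := by
        rw [ε, LinearMap.mulLeft_apply, hι, Finset.sum_mul]
        exact Finset.sum_congr rfl fun j _ => smul_mul_assoc _ _ _
      simp only [dT, LinearMap.add_apply, LinearMap.comp_apply, Finsupp.mapRange.linearMap_apply,
        Finsupp.mapRange_single, h1, e1, Finsupp.smul_single]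
      rw [← Finsupp.singleAddHom_apply k (∑ j, _), map_sum, map_sum]
      simp only [Finsupp.singleAddHom_apply, ← Finsupp.smul_single, map_smul]
    rw [h, map_add, map_smul, map_sum]
    simp only [map_smul]
    rfl
  -- descending along the obstruction
  have hdesc : ∀ k (c : P), Bd _ (c • a (k + 1)) → Bd _ ((c * ρ g) • a k) := by
    intro k c hB
    obtain ⟨β, γ, hγ, heq⟩ := hB
    obtain ⟨c', rfl⟩ := hρ c
    obtain ⟨a', ha'⟩ := red_surj (a (k + 1))
    obtain ⟨z', hz'⟩ := red_surj (a k)
    choose b' hb' using fun i => red_surj (Φ (2 * k + 1) (Finsupp.single k (ExteriorAlgebra.ι P (es i))))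
    choose u hu using fun j i => red_surj (if j < i then Φ (2 * k)
      (shift (P := P) (Finsupp.single k (ExteriorAlgebra.ι P (es j) * ExteriorAlgebra.ι P (es i)))) else 0)
    obtain ⟨η, hη⟩ := red_ker (d' (2 * k + 1) a') (∑ i, r' i • b' i) (by
      rw [hd', ha', red_sum]
      refine (hda k).trans (Finset.sum_congr rfl fun i _ => ?_)
      rw [red_smul, hr', hb'])
    have hanti : ∀ j i : Fin m, red (u j i - u i j) = Φ (2 * k)
        (shift (P := P) (Finsupp.single k (ExteriorAlgebra.ι P (es j) * ExteriorAlgebra.ι P (es i)))) := by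
      intro j i
      rw [red_sub, hu, hu]
      rcases lt_trichotomy j i with h | h | h
      · rw [if_pos h, if_neg h.not_gt, sub_zero]
      · subst h
        rw [if_neg (lt_irrefl _), sub_zero, ExteriorAlgebra.ι_sq_zero, Finsupp.single_zero, map_zero, map_zero]
      · rw [if_neg h.not_gt, if_pos h, zero_sub, eq_comm, ← add_eq_zero_iff_eq_neg, ← map_add, ← map_add,
          ← Finsupp.single_add, ExteriorAlgebra.ι_add_mul_swap, Finsupp.single_zero, map_zero, map_zero]
    choose ηi hηi using fun i => red_ker (d' (2 * k) (b' i))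
      (f' i • z' + ∑ j, r' j • (u j i - u i j)) (by
        rw [hd', hb', red_add, red_smul, hf', hz', red_sum]
        refine (hdb k i).trans (congrArg _ (Finset.sum_congr rfl fun j _ => ?_))
        rw [red_smul, hr', hanti])
    let S := g • z' + ∑ i, r' i • ηi i + d' (2 * k) η
    have hS : d' (2 * k) (d' (2 * k + 1) a') = F₀ • S := by
      rw [hη, map_add, map_sum, map_smul]
      have hcancel : ∑ i, r' i • ∑ j, r' j • (u j i - u i j) = 0 := by
        simp only [smul_sub, Finset.sum_sub_distrib, Finset.smul_sum]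
        rw [sub_eq_zero, Finset.sum_comm]
        refine Finset.sum_congr rfl fun i _ => Finset.sum_congr rfl fun j _ => ?_
        rw [smul_comm]
      have e : ∑ i, d' (2 * k) (r' i • b' i) = F₀ • (g • z' + ∑ i, r' i • ηi i) := by
        have : ∀ i, d' (2 * k) (r' i • b' i) =
            (r' i * f' i) • z' + r' i • ∑ j, r' j • (u j i - u i j) + F₀ • (r' i • ηi i) := fun i => by
          rw [map_smul, hηi, smul_add, smul_add, smul_smul, smul_comm (r' i) F₀]
        simp only [this, Finset.sum_add_distrib]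
        rw [← Finset.sum_smul, hsum, hcancel, add_zero, mul_smul, ← Finset.smul_sum, smul_add]
      rw [e]
      simp only [S, smul_add]
    obtain ⟨β', hβ'⟩ := red_surj β
    obtain ⟨γ', hγ', hγ'red⟩ := small_lift γ hγ
    obtain ⟨ζ, hζ⟩ := red_ker (c' • a') (d' (2 * (k + 1)) β' + γ') (by
      rw [red_smul, ha', red_add, hd', hβ', hγ'red]
      exact heq)
    have key : F₀ • (c' • S - d' (2 * k) (θ (2 * k + 1) β')) = 0 := by
      have h1 : d' (2 * k) (d' (2 * k + 1) (c' • a')) = c' • (F₀ • S) := by rw [map_smul, map_smul, hS]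
      rw [hζ, map_add, map_add, map_add, map_add, hθ (2 * k), hθ (2 * k) γ', hθ (2 * k) (F₀ • ζ),
        map_smul, smul_smul, hF₀, zero_smul, add_zero,
        show F₀ • θ (2 * k) γ' = θ (2 * k) (F₀ • γ') from (map_smul _ _ _).symm, hγ', map_zero, add_zero,
        ← hθ (2 * k)] at h1
      have h2 : d' (2 * k) (d' (2 * k + 1) (d' (2 * (k + 1)) β')) = F₀ • d' (2 * k) (θ (2 * k + 1) β') := by
        rw [show d' (2 * k + 1) (d' (2 * (k + 1)) β') = F₀ • θ (2 * k + 1) β' from hθ (2 * k + 1) β', map_smul]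
      rw [h2] at h1
      rw [smul_sub, h1, smul_comm, sub_self]
    have hsm := small_ann _ key
    refine ⟨d J (2 * k + 1) 0 + red (θ (2 * k + 1) β') - ρ c' • red η,
      red (c' • S - d' (2 * k) (θ (2 * k + 1) β')) - ρ c' • ∑ i, r i • red (ηi i), fun b => ?_, ?_⟩
    · rw [Finsupp.sub_apply, Finsupp.smul_apply, Finsupp.finsetSum_apply]
      refine sub_mem (hsm b) (Ideal.mul_mem_left _ _ (Ideal.sum_mem _ fun i _ => ?_))
      rw [Finsupp.smul_apply]
      exact Ideal.mul_mem_right _ _ (hr i)
    · simp only [S, red_sub, red_smul, red_add, red_sum, hr', hz', hd', map_zero, map_sub, map_smul,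
        zero_add, smul_add, smul_smul, map_mul, Finset.smul_sum]
      abel
  -- the start
  have hstart : Bd _ (a (D + 1)) := by
    haveI : Module.Flat R ↥(Z J (2 * D)) := flat_Z J hD (2 * D) (by omega)
    let q : F J (2 * D + 1) →ₗ[P] ↥(Z J (2 * D)) := LinearMap.codRestrict _ (d J (2 * D)) (d_mem J (2 * D))
    have hq : Function.Surjective q := fun z => by
      obtain ⟨x, hx⟩ := (range_d J (2 * D)).ge z.2
      exact ⟨x, Subtype.ext hx⟩
    obtain ⟨w, hw, hxw⟩ := exists_sum_of_flat (R := R) (N := ↥(Z J (2 * D))) q hq e (d J (2 * D + 1) (a (D + 1))) (fun b => by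
        rw [← hIP, hda D, Finsupp.finsetSum_apply]
        refine Ideal.sum_mem _ fun i _ => ?_
        rw [Finsupp.smul_apply]
        exact Ideal.mul_mem_right _ _ (hr i))
      (Subtype.ext (dd_zero (2 * D) _))
    choose y hy using fun l => (range_d J (2 * D + 1)).ge
      (mem_Z_succ J (2 * D) (show d J (2 * D) (w l) = 0 from congrArg Subtype.val (hw l)))
    let γ := ∑ l, algebraMap R P (e l) • y l
    obtain ⟨β, hβ⟩ := (range_d J (2 * D + 1 + 1)).ge (mem_Z_succ J (2 * D + 1)
      (show d J (2 * D + 1) (a (D + 1) - γ) = 0 by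
        rw [map_sub, map_sum, hxw, sub_eq_zero]
        refine Finset.sum_congr rfl fun l _ => ?_
        rw [map_smul, hy]))
    refine ⟨β, γ, fun b => ?_, ?_⟩
    · simp only [γ, Finsupp.finsetSum_apply, Finsupp.smul_apply, smul_eq_mul]
      exact Ideal.sum_mem _ fun l _ => Ideal.mul_mem_right _ _ (hIP ▸ Ideal.subset_span ⟨l, rfl⟩)
    · exact (sub_add_cancel (a (D + 1)) γ).symm.trans (congrArg (· + γ) hβ.symm)
  have hall : ∀ j k, k + j = D + 1 → Bd _ (ρ g ^ j • a k) := by
    intro j
    induction j with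
    | zero =>
      intro k hk
      obtain rfl : k = D + 1 := by omega
      rw [pow_zero, one_smul]
      exact hstart
    | succ j ih =>
      intro k hk
      rw [pow_succ]
      exact hdesc k _ (ih (k + 1) (by omega))
  obtain ⟨β, γ, hγ, heq⟩ := hall (D + 1) 0 (by omega)
  have h := congrArg (fun x : F J 0 => x PUnit.unit) heq
  simp only [Finsupp.smul_apply, Finsupp.add_apply, a] at h
  rw [show (Φ (2 * 0) (Finsupp.single 0 (1 : Λ P m)) : F J 0) PUnit.unit = 1 by
    rw [show Φ (2 * 0) = Φ 0 from rfl, hΦ0]; simp only [Finsupp.single_eq_same, map_one]; exact Finsupp.single_eq_same, smul_eq_mul, mul_one] at h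
  rw [h]
  exact Submodule.add_mem_sup (d_mem J 0 β) (hγ _)

end Groth.Agent.TorObstr
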