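import Mathlib
import Groth.Agent.Synt29.TorSyzygy

/-!
# Infinite tor dimension from an obstruction operator
-/

set_option autoImplicit false
set_option linter.style.haveILetI false

open TensorProduct

namespace Groth.Agent.TorObstr

universe u

/-- Choice of preimages, coordinatewise, for finitely supported functions. -/
theorem exists_finsupp_of_forall {α M N : Type*} [AddCommMonoid M] [AddCommMonoid N] (g : N → M)
    (hg : g 0 = 0) (p : N → Prop) (hp : p 0) (x : α →₀ M) (h : ∀ a, ∃ y, p y ∧ g y = x a) :
    ∃ y : α →₀ N, (∀ a, p (y a)) ∧ y.mapRange g hg = x := by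
  classical
  choose y hy hgy using h
  let z : α → N := fun a => if x a = 0 then 0 else y a
  refine ⟨Finsupp.onFinset x.support z (fun a ha => Finsupp.mem_support_iff.2 fun h0 => ha (if_pos h0)),
    fun a => ?_, Finsupp.ext fun a => ?_⟩
  · simp only [Finsupp.onFinset_apply, z]
    split_ifs
    · exact hp
    · exact hy a
  · simp only [Finsupp.mapRange_apply, Finsupp.onFinset_apply, z]
    split_ifs with h0
    · rw [hg, h0]
    · exact hgy a

section FlatSyzygy

variable {R P : Type u} [CommRing R] [CommRing P] [Algebra R P]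

/-- An element of a submodule with flat cokernel with coordinates in an extended ideal lies in the ideal
times the submodule. -/
theorem exists_sum_of_flat {α : Type u} {N : Type u} [AddCommGroup N] [Module P N] [Module R N]
    [IsScalarTower R P N] [Module.Flat R N] (q : (α →₀ P) →ₗ[P] N) (hq : Function.Surjective q)
    {p : ℕ} (e : Fin p → R) (x : α →₀ P)
    (hx : ∀ a, x a ∈ Ideal.span (Set.range fun l => algebraMap R P (e l))) (hqx : q x = 0) :
    ∃ w : Fin p → (α →₀ P), (∀ l, q (w l) = 0) ∧ x = ∑ l, algebraMap R P (e l) • w l := by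
  classical
  obtain ⟨v, -, hv⟩ := exists_finsupp_of_forall
    (fun c : Fin p → P => ∑ l, c l * algebraMap R P (e l)) (by simp) (fun _ => True) trivial x
    (fun a => by
      obtain ⟨c, hc⟩ := Ideal.mem_span_range_iff_exists_fun.1 (hx a)
      exact ⟨c, trivial, hc⟩)
  let xl : Fin p → (α →₀ P) := fun l => v.mapRange (fun c => c l) rfl
  have hxl : x = ∑ l, algebraMap R P (e l) • xl l := by
    ext a
    rw [← hv, Finsupp.finsetSum_apply, Finsupp.mapRange_apply]
    refine Finset.sum_congr rfl fun l _ => ?_
    simp [xl, mul_comm, Algebra.smul_def]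
  have hrel : ∑ l, e l • q (xl l) = 0 := by
    have h := congrArg q hxl
    rw [hqx, map_sum] at h
    rw [h]
    refine Finset.sum_congr rfl fun l _ => ?_
    rw [map_smul, algebraMap_smul]
  obtain ⟨k, c, y, hy, hc⟩ := Module.Flat.isTrivialRelation_of_sum_smul_eq_zero hrel
  choose Y hY using fun j => hq (y j)
  refine ⟨fun l => xl l - ∑ j, algebraMap R P (c l j) • Y j, fun l => ?_, ?_⟩
  · rw [map_sub, map_sum, show q (xl l) = _ from hy l, sub_eq_zero]
    refine Finset.sum_congr rfl fun j _ => ?_
    rw [map_smul, hY, algebraMap_smul]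
  · have h0 : ∑ l, algebraMap R P (e l) • ∑ j, algebraMap R P (c l j) • Y j = (0 : α →₀ P) := by
      simp only [Finset.smul_sum, smul_smul, ← map_mul]
      rw [Finset.sum_comm]
      refine Finset.sum_eq_zero fun j _ => ?_
      rw [← Finset.sum_smul, ← map_sum, hc j, map_zero, zero_smul]
    rw [show (∑ l, algebraMap R P (e l) • (xl l - ∑ j, algebraMap R P (c l j) • Y j)) =
      ∑ l, algebraMap R P (e l) • xl l - ∑ l, algebraMap R P (e l) • ∑ j, algebraMap R P (c l j) • Y j by
        rw [← Finset.sum_sub_distrib]; exact Finset.sum_congr rfl fun l _ => smul_sub _ _ _,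
      h0, sub_zero, ← hxl]

end FlatSyzygy

section Resolution

variable {P : Type u} [CommRing P] (J : Ideal P)

/-- The free modules and syzygies of the canonical resolution of `P ⧸ J`. -/
noncomputable def step : ℕ → Σ α : Type u, Submodule P (α →₀ P)
  | 0 => ⟨PUnit, Submodule.comap (Finsupp.lapply PUnit.unit : (PUnit.{u + 1} →₀ P) →ₗ[P] P) J⟩
  | i + 1 => ⟨↥(step i).2, LinearMap.ker (Finsupp.linearCombination P
      (Subtype.val : ↥(step i).2 → ((step i).1 →₀ P)))⟩

/-- The terms. -/
abbrev F (i : ℕ) : Type u := (step J i).1 →₀ P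

/-- The syzygies. -/
noncomputable abbrev Z (i : ℕ) : Submodule P (F J i) := (step J i).2

/-- The differentials. -/
noncomputable def d (i : ℕ) : F J (i + 1) →ₗ[P] F J i :=
  Finsupp.linearCombination P (Subtype.val : ↥(Z J i) → F J i)

theorem range_linearCombination_val {M : Type*} [AddCommGroup M] [Module P M] (W : Submodule P M) :
    LinearMap.range (Finsupp.linearCombination P (Subtype.val : ↥W → M)) = W := by
  rw [Finsupp.range_linearCombination, Subtype.range_coe, Submodule.span_eq]

theorem range_d (i : ℕ) : LinearMap.range (d J i) = Z J i := range_linearCombination_val (Z J i)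

theorem Z_succ (i : ℕ) : Z J (i + 1) = LinearMap.ker (d J i) := rfl

theorem d_mem (i : ℕ) (x : F J (i + 1)) : d J i x ∈ Z J i := (range_d J i).le ⟨x, rfl⟩

theorem mem_Z_succ (i : ℕ) {x : F J (i + 1)} (h : d J i x = 0) : x ∈ Z J (i + 1) := h

variable {R : Type u} [CommRing R] [Algebra R P] [Module.Flat R P]

theorem flat_finsupp (α : Type u) : Module.Flat R (α →₀ P) := Module.Flat.trans R P (α →₀ P)

theorem torExactFrom_ker_step {M : Type u} [AddCommGroup M] [Module P M] [Module R M] [IsScalarTower R P M]
    (W : Submodule P M) {n : ℕ} (h : Synt29.TorExactFrom R (n + 1) ↥(W.restrictScalars R)) :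
    Synt29.TorExactFrom R n
      ↥((LinearMap.ker (Finsupp.linearCombination P (Subtype.val : ↥W → M))).restrictScalars R) := by
  haveI := flat_finsupp (R := R) (P := P) ↥W
  let q : (↥W →₀ P) →ₗ[R] ↥(W.restrictScalars R) :=
    LinearMap.codRestrict _ ((Finsupp.linearCombination P (Subtype.val : ↥W → M)).restrictScalars R)
      fun x => (range_linearCombination_val W).le ⟨x, rfl⟩
  have hq : Function.Surjective q := fun z => by
    obtain ⟨x, hx⟩ := (range_linearCombination_val W).ge z.2
    exact ⟨x, Subtype.ext hx⟩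
  have hker : LinearMap.ker q =
      (LinearMap.ker (Finsupp.linearCombination P (Subtype.val : ↥W → M))).restrictScalars R := by
    ext x
    exact Subtype.ext_iff
  rw [← hker]
  exact Synt29.torExactFrom_ker q hq h

theorem torExactFrom_Z {D : ℕ} (h : Synt29.TorExactFrom R (D + 1) (P ⧸ J)) :
    ∀ i, ∀ n, D ≤ n + i → Synt29.TorExactFrom R n ↥((Z J i).restrictScalars R) := by
  intro i
  induction i with
  | zero =>
    intro n hn
    let q : F J 0 →ₗ[R] P ⧸ J :=
      ((Submodule.mkQ J).comp (Finsupp.lapply PUnit.unit : (PUnit.{u + 1} →₀ P) →ₗ[P] P)).restrictScalars R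
    haveI : Module.Flat R (F J 0) := flat_finsupp PUnit
    have hq : Function.Surjective q := fun z => by
      obtain ⟨p, rfl⟩ := Submodule.mkQ_surjective J z
      exact ⟨Finsupp.single PUnit.unit p, congrArg (Submodule.mkQ J) Finsupp.single_eq_same⟩
    have hker : LinearMap.ker q = (Z J 0).restrictScalars R := by
      ext x
      exact Submodule.Quotient.mk_eq_zero J
    rw [← hker]
    exact Synt29.torExactFrom_ker q hq fun N Q j hj => h N Q j (by omega)
  | succ i ih =>
    intro n hn
    exact torExactFrom_ker_step (Z J i) (ih (n + 1) (by omega))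

theorem flat_Z {D : ℕ} (h : Synt29.TorExactFrom R (D + 1) (P ⧸ J)) (i : ℕ) (hi : D ≤ i) :
    Module.Flat R ↥(Z J i) :=
  Synt29.flat_of_torExactFrom_zero (torExactFrom_Z J h i 0 (by omega))

end Resolution

end Groth.Agent.TorObstr
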